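import Groth.Agent.Lib.HypTor28.Shift
import Groth.Agent.Lib.TorAscH7.Basic
import Mathlib.LinearAlgebra.TensorProduct.Quotient
import Mathlib.RingTheory.Flat.Stability
import Mathlib.LinearAlgebra.FreeModule.Basic

/-! Periodicity of `Tor` over a hypersurface. -/

set_option autoImplicit false
set_option linter.style.haveILetI false

universe u

open CategoryTheory CategoryTheory.Limits TensorProduct

namespace Groth.Agent.HypTor28

theorem flat_prod {B : Type u} [CommRing B] (L F : Type u) [AddCommGroup L] [Module B L]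
    [AddCommGroup F] [Module B F] [Module.Flat B L] [Module.Flat B F] : Module.Flat B (L × F) := by
  refine Module.Flat.iff_lTensor_preserves_injective_linearMap.2 fun N N' _ _ _ _ f hf => ?_
  have key : ∀ z, TensorProduct.prodLeft B B L F N' (f.lTensor (L × F) z) =
      ((f.lTensor L).prodMap (f.lTensor F)) (TensorProduct.prodLeft B B L F N z) := fun z => by
    induction z using TensorProduct.induction_on with
    | zero => simp only [map_zero]
    | tmul x n =>
      obtain ⟨a, c⟩ := x
      exact Prod.ext rfl rfl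
    | add a b ha hb => simp only [map_add, ha, hb]
  intro x y hxy
  apply (TensorProduct.prodLeft B B L F N).injective
  apply (Module.Flat.lTensor_preserves_injective_linearMap (M := L) f hf).prodMap
    (Module.Flat.lTensor_preserves_injective_linearMap (M := F) f hf)
  have := congrArg (TensorProduct.prodLeft B B L F N') hxy
  rw [key, key] at this
  exact this

/-- Dimension shifting along the kernel of a surjection from a flat module. -/
theorem hasTorDimLE_ker {B : Type u} [CommRing B] {F M : Type u} [AddCommGroup F] [Module B F]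
    [AddCommGroup M] [Module B M] [Module.Flat B F] (p : F →ₗ[B] M) (hp : Function.Surjective p) (d : ℕ) :
    DRing.HasTorDimLE B (d + 1) M ↔ DRing.HasTorDimLE B d (LinearMap.ker p) := by
  have he : Function.Exact (LinearMap.ker p).subtype p := LinearMap.exact_subtype_ker_map p
  exact TorAscH7.hasTorDimLE_succ_iff (K := LinearMap.ker p) (F := F) (M := M) _ (LinearMap.ker p).injective_subtype p he hp d

/-- Dimension shifting along the kernel of a surjection from a flat module, as an isomorphism. -/
theorem nonempty_tor_shift_ker {B : Type u} [CommRing B] {F M : Type u} [AddCommGroup F] [Module B F]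
    [AddCommGroup M] [Module B M] [Module.Flat B F] (p : F →ₗ[B] M) (hp : Function.Surjective p)
    (N : ModuleCat.{u} B) (n : ℕ) :
    Nonempty ((((Tor (ModuleCat.{u} B) (n + 2)).obj (ModuleCat.of B M)).obj N) ≅
      (((Tor (ModuleCat.{u} B) (n + 1)).obj (ModuleCat.of B (LinearMap.ker p))).obj N)) := by
  have he : Function.Exact (LinearMap.ker p).subtype p := LinearMap.exact_subtype_ker_map p
  exact nonempty_tor_shift (K := LinearMap.ker p) (F := F) (M := M) _ (LinearMap.ker p).injective_subtype p he hp N n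

theorem hasTorDimLE_prod_flat {B : Type u} [CommRing B] {L F : Type u} [AddCommGroup L] [Module B L]
    [AddCommGroup F] [Module B F] [Module.Flat B F] (d : ℕ) (h : DRing.HasTorDimLE B d L) :
    DRing.HasTorDimLE B d (L × F) := by
  let p : (L →₀ B) →ₗ[B] L := Finsupp.linearCombination B id
  have hp : Function.Surjective p := Finsupp.linearCombination_id_surjective B L
  cases d with
  | zero =>
    haveI := (TorBal.flat_iff_hasTorDimLE_zero L).1 h
    exact (TorBal.flat_iff_hasTorDimLE_zero (L × F)).2 (flat_prod L F)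
  | succ d =>
    haveI : Module.Flat B ((L →₀ B) × F) := flat_prod _ _
    let i : LinearMap.ker p →ₗ[B] (L →₀ B) × F := LinearMap.inl B _ F ∘ₗ (LinearMap.ker p).subtype
    refine (TorAscH7.hasTorDimLE_succ_iff i (LinearMap.inl_injective.comp Subtype.val_injective)
      (p.prodMap LinearMap.id) ?_ (hp.prodMap Function.surjective_id) d).2
      ((hasTorDimLE_ker p hp d).1 h)
    rintro ⟨x, y⟩
    constructor
    · intro hxy
      have h1 : p x = 0 := congrArg Prod.fst hxy
      have h2 : y = 0 := congrArg Prod.snd hxy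
      exact ⟨⟨x, h1⟩, Prod.ext rfl h2.symm⟩
    · rintro ⟨⟨z, hz⟩, hzxy⟩
      rw [← hzxy]
      exact Prod.ext hz rfl

/-- The quotient of a module by a projective submodule. -/
theorem hasTorDimLE_quot {B : Type u} [CommRing B] {P K C : Type u} [AddCommGroup P] [Module B P]
    [AddCommGroup K] [Module B K] [AddCommGroup C] [Module B C] [Module.Projective B P] (γ : P →ₗ[B] K)
    (hγ : Function.Injective γ) (ρ : K →ₗ[B] C) (hρ : Function.Surjective ρ) (hex : Function.Exact γ ρ) (d : ℕ)
    (h : DRing.HasTorDimLE B (d + 1) K) : DRing.HasTorDimLE B (d + 1) C := by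
  obtain ⟨G, _, _, _, π, hπ⟩ : ∃ (G : Type u) (_ : AddCommGroup G) (_ : Module B G) (_ : Module.Flat B G)
      (π : G →ₗ[B] K), Function.Surjective π :=
    ⟨K →₀ B, inferInstance, inferInstance, inferInstance, Finsupp.linearCombination B id,
      Finsupp.linearCombination_id_surjective B K⟩
  have hL := (hasTorDimLE_ker π hπ d).1 h
  obtain ⟨s, hs⟩ := Module.projective_lifting_property π γ hπ
  have hsg : ∀ x, π (s x) = γ x := fun x => LinearMap.congr_fun hs x
  let i : LinearMap.ker π × P →ₗ[B] G := (LinearMap.ker π).subtype.coprod s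
  refine (TorAscH7.hasTorDimLE_succ_iff (K := LinearMap.ker π × P) (F := G) (M := C) i ?_ (ρ ∘ₗ π) ?_ (hρ.comp hπ) d).2
    (hasTorDimLE_prod_flat d hL)
  · rw [injective_iff_map_eq_zero]
    rintro ⟨l, x⟩ hlx
    have hlx' : (l : G) + s x = 0 := hlx
    have h2 : γ x = 0 := by
      have := congrArg π hlx'
      rw [map_add, map_zero, (l.2 : π l.1 = 0), zero_add, hsg] at this
      exact this
    have hx : x = 0 := hγ (h2.trans (map_zero γ).symm)
    subst hx
    rw [map_zero, add_zero] at hlx'
    exact Prod.ext (Subtype.ext hlx') rfl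
  · intro z
    constructor
    · intro hz
      obtain ⟨y, hy⟩ := (hex (π z)).1 hz
      have hzy : π (z - s y) = 0 := by
        rw [map_sub, hsg, sub_eq_zero]; exact hy.symm
      exact ⟨(⟨z - s y, hzy⟩, y), sub_add_cancel z (s y)⟩
    · rintro ⟨⟨l, x⟩, rfl⟩
      show ρ (π ((l : G) + s x)) = 0
      rw [map_add, (l.2 : π l.1 = 0), zero_add, hsg]
      exact hex.apply_apply_eq_zero x

variable {B R : Type u} [CommRing B] [CommRing R] [Algebra B R] (g : B) (hg : IsSMulRegular B g)
  (hsurj : Function.Surjective (algebraMap B R)) (hker : RingHom.ker (algebraMap B R) = Ideal.span {g})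

/-- Reduction of a free module modulo `g`. -/
noncomputable def red (ι : Type u) : (ι →₀ B) →ₗ[B] (ι →₀ R) :=
  Finsupp.mapRange.linearMap (Algebra.linearMap B R)

include hsurj in
theorem red_surjective (ι : Type u) : Function.Surjective (red (B := B) (R := R) ι) := by
  intro x
  obtain ⟨y, hy⟩ := Finsupp.mapRange_surjective (Algebra.linearMap B R) (map_zero _) hsurj x
  exact ⟨y, hy⟩

include hker in
theorem red_eq_zero {ι : Type u} (x : ι →₀ B) : red (R := R) ι x = 0 ↔ ∃ y, x = g • y := by
  constructor
  · intro h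
    have h1 : ∀ j, ∃ c, x j = g * c := fun j => by
      have h2 : algebraMap B R (x j) = 0 := DFunLike.congr_fun h j
      rw [← RingHom.mem_ker, hker, Ideal.mem_span_singleton'] at h2
      obtain ⟨c, hc⟩ := h2
      exact ⟨c, by rw [← hc, mul_comm]⟩
    choose c hc using h1
    classical
    refine ⟨∑ j ∈ x.support, Finsupp.single j (c j), ?_⟩
    conv_lhs => rw [← Finsupp.sum_single x, Finsupp.sum]
    rw [Finset.smul_sum]
    exact Finset.sum_congr rfl fun j _ => by rw [Finsupp.smul_single, smul_eq_mul, ← hc]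
  · rintro ⟨y, rfl⟩
    have h0 : algebraMap B R g = 0 := by
      rw [← RingHom.mem_ker, hker]; exact Ideal.mem_span_singleton_self g
    rw [map_smul, ← algebraMap_smul R g, h0, zero_smul]

include hg in
theorem smul_injective (ι : Type u) {x y : ι →₀ B} (h : g • x = g • y) : x = y :=
  Finsupp.ext fun j => hg (DFunLike.congr_fun h j)

variable {M : Type u} [AddCommGroup M] [Module R M] [Module B M] [IsScalarTower B R M]

include hker in
theorem g_smul_eq_zero (m : M) : g • m = 0 := by
  have h0 : algebraMap B R g = 0 := by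
    rw [← RingHom.mem_ker, hker]; exact Ideal.mem_span_singleton_self g
  rw [← algebraMap_smul R g m, h0, zero_smul]

/-- The presentation over `R`. -/
noncomputable abbrev presR : (M →₀ R) →ₗ[R] M := Finsupp.linearCombination R id

/-- The presentation over `B`. -/
noncomputable abbrev presB : (M →₀ B) →ₗ[B] M := Finsupp.linearCombination B id

theorem presR_red (x : M →₀ B) : (presR : (M →₀ R) →ₗ[R] M) (red M x) = (presB : (M →₀ B) →ₗ[B] M) x := by
  induction x using Finsupp.induction_linear with
  | zero => simp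
  | add a b ha hb => simp only [map_add, ha, hb]
  | single m b =>
    simp [red, presR, presB, Finsupp.linearCombination_single, algebraMap_smul]

/-- Reduction of the syzygy. -/
noncomputable def redKer :
    LinearMap.ker (presB : (M →₀ B) →ₗ[B] M) →ₗ[B] LinearMap.ker (presR : (M →₀ R) →ₗ[R] M) where
  toFun k := ⟨red M k.1, by rw [LinearMap.mem_ker, presR_red]; exact k.2⟩
  map_add' a b := Subtype.ext (map_add _ _ _)
  map_smul' c a := Subtype.ext (map_smul (red M) c a.1)

include hsurj in
theorem redKer_surjective : Function.Surjective (redKer (B := B) (R := R) (M := M)) := by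
  rintro ⟨x, hx⟩
  obtain ⟨y, rfl⟩ := red_surjective hsurj M x
  rw [LinearMap.mem_ker, presR_red] at hx
  exact ⟨⟨y, hx⟩, rfl⟩

include hg hsurj hker in
/-- The syzygy over `R` of a module of tor dimension `d + 2` over `B`. -/
theorem hasTorDimLE_syzygy (d : ℕ) (h : DRing.HasTorDimLE B (d + 2) M) :
    DRing.HasTorDimLE B (d + 1) (LinearMap.ker (presR : (M →₀ R) →ₗ[R] M)) := by
  have hK₀ := (hasTorDimLE_ker (presB : (M →₀ B) →ₗ[B] M) (Finsupp.linearCombination_id_surjective B M) (d + 1)).1 h
  let gK : (M →₀ B) →ₗ[B] LinearMap.ker (presB : (M →₀ B) →ₗ[B] M) :=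
    LinearMap.codRestrict _ (g • LinearMap.id) fun x => by
      rw [LinearMap.mem_ker, LinearMap.smul_apply, map_smul, LinearMap.id_apply]
      exact g_smul_eq_zero g hker _
  refine hasTorDimLE_quot gK (fun x y hxy => smul_injective g hg M (congrArg Subtype.val hxy))
    (redKer (B := B) (R := R) (M := M)) (redKer_surjective hsurj) (fun z => ⟨fun hz => ?_, ?_⟩) d hK₀
  · obtain ⟨y, hy⟩ := (red_eq_zero g hker _).1 (congrArg Subtype.val hz)
    exact ⟨y, Subtype.ext hy.symm⟩
  · rintro ⟨x, rfl⟩
    exact Subtype.ext ((red_eq_zero g hker _).2 ⟨x, rfl⟩)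

include hg hsurj hker in
/-- Periodicity for a module of tor dimension one over `B`. -/
theorem nonempty_periodic_one (h : DRing.HasTorDimLE B 1 M) (N : ModuleCat.{u} R) (j : ℕ) :
    Nonempty ((((Tor (ModuleCat.{u} R) (j + 3)).obj (ModuleCat.of R M)).obj N) ≅
      (((Tor (ModuleCat.{u} R) (j + 1)).obj (ModuleCat.of R M)).obj N)) := by
  let K := LinearMap.ker (presB : (M →₀ B) →ₗ[B] M)
  have hp : Function.Surjective (presB : (M →₀ B) →ₗ[B] M) := Finsupp.linearCombination_id_surjective B M
  haveI : Module.Flat B K := (TorBal.flat_iff_hasTorDimLE_zero K).1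
    ((hasTorDimLE_ker (presB : (M →₀ B) →ₗ[B] M) hp 0).1 h)
  let C := LinearMap.ker (presR : (M →₀ R) →ₗ[R] M)
  let ψ : R ⊗[B] K →ₗ[R] C := LinearMap.liftBaseChange R (redKer (B := B) (R := R) (M := M))
  have hψ : ∀ k : K, ψ (1 ⊗ₜ k) = redKer k := fun k => by
    show (1 : R) • redKer (B := B) (R := R) k = _
    rw [one_smul]
  let one : K →ₗ[B] R ⊗[B] K := TensorProduct.mk B R K 1
  have hone : Function.Surjective one := TensorProduct.mk_surjective B K R hsurj
  have hψs : Function.Surjective ψ := fun c => by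
    obtain ⟨k, rfl⟩ := redKer_surjective hsurj c
    exact ⟨one k, hψ k⟩
  let gK : (M →₀ B) →ₗ[B] K := LinearMap.codRestrict K (g • LinearMap.id) fun x => by
    rw [LinearMap.mem_ker, LinearMap.smul_apply, map_smul, LinearMap.id_apply]
    exact g_smul_eq_zero g hker _
  have hle : LinearMap.ker (presB : (M →₀ B) →ₗ[B] M) ≤ LinearMap.ker (one ∘ₗ gK) := fun x hx => by
    have h1 : gK x = g • (⟨x, hx⟩ : K) := Subtype.ext rfl
    rw [LinearMap.mem_ker, LinearMap.comp_apply, h1, map_smul]
    exact g_smul_eq_zero (M := R ⊗[B] K) g hker _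
  let θB : M →ₗ[B] R ⊗[B] K := (LinearMap.ker (presB : (M →₀ B) →ₗ[B] M)).liftQ (one ∘ₗ gK) hle ∘ₗ
    (LinearMap.quotKerEquivOfSurjective _ hp).symm.toLinearMap
  have hθ : ∀ x, θB (presB x) = one (gK x) := fun x => by
    show Submodule.liftQ _ _ hle ((LinearMap.quotKerEquivOfSurjective _ hp).symm (presB x)) = _
    rw [show (LinearMap.quotKerEquivOfSurjective _ hp).symm (presB x) = Submodule.Quotient.mk x from
      (LinearMap.quotKerEquivOfSurjective _ hp).symm_apply_eq.mpr rfl]
    rfl
  let θ : M →ₗ[R] R ⊗[B] K :=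
    { θB with
      map_smul' := fun r m => by
        obtain ⟨b, rfl⟩ := hsurj r
        show θB (algebraMap B R b • m) = algebraMap B R b • θB m
        rw [algebraMap_smul, algebraMap_smul, map_smul] }
  have hθi : Function.Injective θ := by
    rw [injective_iff_map_eq_zero]
    intro m hm
    obtain ⟨x, rfl⟩ := hp m
    have h1 : one (gK x) = 0 := (hθ x).symm.trans hm
    obtain ⟨k, hk⟩ : ∃ k : K, gK x = g • k := by
      have h2 : Function.Exact (g • (LinearMap.id : B →ₗ[B] B)) (Algebra.linearMap B R) := fun b => by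
        rw [Algebra.linearMap_apply, ← RingHom.mem_ker, hker, Ideal.mem_span_singleton']
        exact ⟨fun ⟨c, hc⟩ => ⟨c, by rw [← hc]; exact mul_comm g c⟩, fun ⟨c, hc⟩ => ⟨c, by rw [← hc]; exact mul_comm c g⟩⟩
      have h3 : (Algebra.linearMap B R).rTensor K ((1 : B) ⊗ₜ gK x) = 0 := by
        rw [LinearMap.rTensor_tmul, Algebra.linearMap_apply, map_one]; exact h1
      obtain ⟨z, hz⟩ := (rTensor_exact (M := B) (N := B) (P := R) K h2 hsurj _).1 h3
      refine ⟨TensorProduct.lid B K z, ?_⟩
      have h4 : ∀ z : B ⊗[B] K, TensorProduct.lid B K ((g • (LinearMap.id : B →ₗ[B] B)).rTensor K z) =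
          g • TensorProduct.lid B K z := fun z => by
        induction z using TensorProduct.induction_on with
        | zero => simp
        | tmul b k => simp [← mul_smul]
        | add a b ha hb => simp only [map_add, smul_add, ha, hb]
      rw [← h4, hz, TensorProduct.lid_tmul, one_smul]
    have hxk : x = k.1 := smul_injective g hg M (congrArg Subtype.val hk)
    rw [hxk]; exact k.2
  have hex₁ : Function.Exact θ ψ := by
    intro z
    constructor
    · intro hz
      obtain ⟨k, rfl⟩ := hone z
      have h1 : red (R := R) M k.1 = 0 := congrArg Subtype.val ((hψ k).symm.trans hz)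
      obtain ⟨y, hy⟩ := (red_eq_zero g hker _).1 h1
      exact ⟨presB y, (hθ y).trans (congrArg one (Subtype.ext hy.symm))⟩
    · rintro ⟨m, rfl⟩
      obtain ⟨x, rfl⟩ := hp m
      show ψ (θB (presB x)) = 0
      rw [hθ]
      exact (hψ _).trans (Subtype.ext ((red_eq_zero g hker _).2 ⟨x, rfl⟩))
  obtain ⟨e₁⟩ := nonempty_tor_shift_ker (presR : (M →₀ R) →ₗ[R] M) (Finsupp.linearCombination_id_surjective R M) N (j + 1)
  obtain ⟨e₂⟩ := nonempty_tor_shift (K := M) (F := R ⊗[B] K) (M := C) θ hθi ψ hex₁ hψs N j
  exact ⟨e₁ ≪≫ e₂⟩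

include hg hsurj hker in
/-- Periodicity of `Tor` above the tor dimension over `B`. -/
theorem nonempty_periodic (N : ModuleCat.{u} R) :
    ∀ (d : ℕ) (M : Type u) [AddCommGroup M] [Module R M] [Module B M] [IsScalarTower B R M],
      DRing.HasTorDimLE B (d + 1) M → ∀ j : ℕ,
      Nonempty ((((Tor (ModuleCat.{u} R) (d + j + 3)).obj (ModuleCat.of R M)).obj N) ≅
        (((Tor (ModuleCat.{u} R) (d + j + 1)).obj (ModuleCat.of R M)).obj N)) := by
  intro d
  induction d with
  | zero =>
    intro M _ _ _ _ h j
    rw [Nat.zero_add]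
    exact nonempty_periodic_one g hg hsurj hker h N j
  | succ d ih =>
    intro M _ _ _ _ h j
    let C := LinearMap.ker (presR : (M →₀ R) →ₗ[R] M)
    have hp : Function.Surjective (presR : (M →₀ R) →ₗ[R] M) := Finsupp.linearCombination_id_surjective R M
    obtain ⟨e₁⟩ := ih C (hasTorDimLE_syzygy g hg hsurj hker d h) j
    obtain ⟨a⟩ := nonempty_tor_shift_ker (presR : (M →₀ R) →ₗ[R] M) hp N (d + j + 2)
    obtain ⟨c⟩ := nonempty_tor_shift_ker (presR : (M →₀ R) →ₗ[R] M) hp N (d + j)
    rw [show d + 1 + j + 3 = d + j + 2 + 2 by omega, show d + 1 + j + 1 = d + j + 2 by omega]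
    exact ⟨a ≪≫ e₁ ≪≫ c.symm⟩

end Groth.Agent.HypTor28
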