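import Groth.Agent.Lib.FlatSyz.TorDim
import Groth.Agent.Lib.TorBal.Dim
import Mathlib.Algebra.Homology.HomologySequence
import Mathlib.Algebra.Homology.HomologicalComplexAbelian

/-! Dimension shifting in the first variable of `Tor`, as an isomorphism. -/

set_option autoImplicit false

universe u

open CategoryTheory CategoryTheory.Limits MonoidalCategory TensorProduct

namespace Groth.Agent.HypTor28

variable {B : Type u} [CommRing B]

/-- `M ⊗ P`, for a complex `P`. -/
noncomputable abbrev tcx (M : ModuleCat.{u} B) (P : ChainComplex (ModuleCat.{u} B) ℕ) :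
    ChainComplex (ModuleCat.{u} B) ℕ :=
  (((tensoringLeft (ModuleCat.{u} B)).obj M).mapHomologicalComplex _).obj P

/-- Functoriality of `M ⊗ P` in `M`. -/
noncomputable def tcxMap {M M' : ModuleCat.{u} B} (f : M ⟶ M') (P : ChainComplex (ModuleCat.{u} B) ℕ) :
    tcx M P ⟶ tcx M' P :=
  (NatTrans.mapHomologicalComplex ((tensoringLeft (ModuleCat.{u} B)).map f) _).app P

theorem nonempty_tor_shift {K F M : Type u} [AddCommGroup K] [Module B K] [AddCommGroup F] [Module B F]
    [AddCommGroup M] [Module B M] [Module.Flat B F] (i : K →ₗ[B] F) (hi : Function.Injective i)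
    (p : F →ₗ[B] M) (hip : Function.Exact i p) (hp : Function.Surjective p) (N : ModuleCat.{u} B) (n : ℕ) :
    Nonempty ((((Tor (ModuleCat.{u} B) (n + 2)).obj (ModuleCat.of B M)).obj N) ≅
      (((Tor (ModuleCat.{u} B) (n + 1)).obj (ModuleCat.of B K)).obj N)) := by
  let Pr := ProjectiveResolution.of N
  let S : ShortComplex (ChainComplex (ModuleCat.{u} B) ℕ) :=
    ShortComplex.mk (tcxMap (ModuleCat.ofHom i) Pr.complex) (tcxMap (ModuleCat.ofHom p) Pr.complex) (by
      refine HomologicalComplex.hom_ext _ _ fun j => ModuleCat.hom_ext (LinearMap.ext fun z => ?_)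
      show (p.rTensor (Pr.complex.X j)) (i.rTensor (Pr.complex.X j) z) = 0
      exact (rTensor_exact (M := K) (N := F) (P := M) (Pr.complex.X j) hip hp).apply_apply_eq_zero z)
  have hS : S.ShortExact := HomologicalComplex.shortExact_of_degreewise_shortExact S fun j => by
    haveI := FlatSyz.flat_X Pr j
    exact
      { exact := (ShortComplex.ShortExact.moduleCat_exact_iff_function_exact _).2
          (rTensor_exact (M := K) (N := F) (P := M) (Pr.complex.X j) hip hp)
        mono_f := (ModuleCat.mono_iff_injective _).2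
          (Module.Flat.rTensor_preserves_injective_linearMap (M := Pr.complex.X j) i hi)
        epi_g := (ModuleCat.epi_iff_surjective _).2 (LinearMap.rTensor_surjective (Pr.complex.X j) hp) }
  have hF : ∀ j, IsZero (S.X₂.homology (j + 1)) := fun j =>
    ((Pr.isoLeftDerivedObj ((tensoringLeft (ModuleCat.{u} B)).obj (ModuleCat.of B F)) (j + 1)).isZero_iff).1
      (TorBal.isZero_tor_flat_left F j N)
  exact ⟨Pr.isoLeftDerivedObj ((tensoringLeft (ModuleCat.{u} B)).obj (ModuleCat.of B M)) (n + 2) ≪≫
    hS.δIso (n + 2) (n + 1) rfl (hF (n + 1)) (hF n) ≪≫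
    (Pr.isoLeftDerivedObj ((tensoringLeft (ModuleCat.{u} B)).obj (ModuleCat.of B K)) (n + 1)).symm⟩

end Groth.Agent.HypTor28
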