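import Groth.Agent.Lib.TorAscH7.Basic
import Groth.Agent.Lib.CI2.TorPoly
import Mathlib.RingTheory.RingHom.StandardSmooth
import Mathlib.RingTheory.Smooth.StandardSmoothOfFree
import Mathlib.RingTheory.Smooth.StandardSmoothCotangent
import Mathlib.RingTheory.Etale.Kaehler
import Mathlib.RingTheory.Spectrum.Prime.FreeLocus
import Mathlib.RingTheory.Flat.Localization
import Mathlib.RingTheory.Etale.Weakly

/-! Tor dimension over a smooth algebra of relative dimension `n`. -/

set_option autoImplicit false
set_option linter.style.haveILetI false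

universe u

open CategoryTheory CategoryTheory.Limits TensorProduct

namespace Groth.Agent.HypTor28

/-- Tor dimension is local on a covering by basic opens. -/
theorem hasTorDimLE_of_span {B : Type u} [CommRing B] (s : Set B) (hs : Ideal.span s = ⊤) :
    ∀ (n : ℕ) (K : Type u) [AddCommGroup K] [Module B K],
      (∀ f ∈ s, DRing.HasTorDimLE (Localization.Away f) n (Localization.Away f ⊗[B] K)) →
        DRing.HasTorDimLE B n K := by
  intro n
  induction n with
  | zero =>
    intro K _ _ h
    refine (TorBal.flat_iff_hasTorDimLE_zero K).2 ?_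
    refine Module.flat_of_isLocalized_span B K s hs (fun f => Localization.Away f.1 ⊗[B] K)
      (fun f => TensorProduct.mk B (Localization.Away f.1) K 1) fun f => ?_
    haveI := (TorBal.flat_iff_hasTorDimLE_zero _).1 (h f.1 f.2)
    haveI : Module.Flat B (Localization.Away f.1) := IsLocalization.flat _ (Submonoid.powers f.1)
    exact Module.Flat.trans B (Localization.Away f.1) _
  | succ n ih =>
    intro K _ _ h
    let p : (K →₀ B) →ₗ[B] K := Finsupp.linearCombination B id
    have hp : Function.Surjective p := Finsupp.linearCombination_id_surjective B K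
    let K₁ := LinearMap.ker p
    refine (TorAscH7.hasTorDimLE_succ_iff K₁.subtype K₁.injective_subtype p (LinearMap.exact_subtype_ker_map p) hp n).2
      (ih K₁ fun f hf => ?_)
    let L := Localization.Away f
    haveI : Module.Flat B L := IsLocalization.flat _ (Submonoid.powers f)
    have h1 : Function.Injective (K₁.subtype.baseChange L) := by
      rw [LinearMap.baseChange_eq_ltensor]
      exact Module.Flat.lTensor_preserves_injective_linearMap _ K₁.injective_subtype
    have he : Function.Exact K₁.subtype p := LinearMap.exact_subtype_ker_map p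
    have h2 : Function.Exact (K₁.subtype.baseChange L) (p.baseChange L) := by
      rw [LinearMap.baseChange_eq_ltensor, LinearMap.baseChange_eq_ltensor]
      exact lTensor_exact (M := K₁) (N := K →₀ B) (P := K) L he hp
    have h3 : Function.Surjective (p.baseChange L) := by
      rw [LinearMap.baseChange_eq_ltensor]
      exact LinearMap.lTensor_surjective L hp
    exact (TorAscH7.hasTorDimLE_succ_iff (B := L) (K₁.subtype.baseChange L) h1 (p.baseChange L) h2 h3 n).1 (h f hf)

theorem standardSmooth_relDim {A B C : Type u} [CommRing A] [CommRing B] [CommRing C] [Algebra A B]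
    [Algebra B C] [Algebra A C] [IsScalarTower A B C] [Algebra.Smooth A B] [Algebra.FormallyEtale B C]
    [Algebra.IsStandardSmooth A C] [Nontrivial C] (n : ℕ)
    (hn : ∀ p : PrimeSpectrum B, Module.rankAtStalk (Ω[B⁄A]) p = n) :
    Algebra.IsStandardSmoothOfRelativeDimension n A C := by
  rw [Algebra.IsStandardSmoothOfRelativeDimension.iff_of_isStandardSmooth]
  obtain ⟨q⟩ := (inferInstance : Nonempty (PrimeSpectrum C))
  have h1 : Module.rankAtStalk (R := C) (C ⊗[B] Ω[B⁄A]) q = n := by
    rw [Module.rankAtStalk_baseChange]; exact hn _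
  haveI : Module.Free C (C ⊗[B] Ω[B⁄A]) :=
    Module.Free.of_equiv (KaehlerDifferential.tensorKaehlerEquivOfFormallyEtale A B C).symm
  rw [Module.rankAtStalk_eq_finrank_of_free] at h1
  rw [← (KaehlerDifferential.tensorKaehlerEquivOfFormallyEtale A B C).rank_eq, ← Module.finrank_eq_rank]
  exact_mod_cast h1

/-- A module flat over `A` has tor dimension `≤ n` over an algebra etale over affine `n`-space. -/
theorem hasTorDimLE_of_etale {A C : Type u} [CommRing A] [CommRing C] [Algebra A C] {n : ℕ}
    (g : MvPolynomial (Fin n) A →ₐ[A] C) (hg : g.Etale) (K : Type u) [AddCommGroup K] [Module A K]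
    [Module C K] [IsScalarTower A C K] (hK : Module.Flat A K) : DRing.HasTorDimLE C n K := by
  letI := g.toRingHom.toAlgebra
  letI : Module (MvPolynomial (Fin n) A) K := Module.compHom _ g.toRingHom
  haveI : IsScalarTower (MvPolynomial (Fin n) A) C K := IsScalarTower.of_algebraMap_smul fun _ _ => rfl
  haveI : IsScalarTower A (MvPolynomial (Fin n) A) K := IsScalarTower.of_algebraMap_smul fun a x => by
    show g (algebraMap A _ a) • x = a • x
    rw [g.commutes, algebraMap_smul]
  haveI : Algebra.Etale (MvPolynomial (Fin n) A) C := hg
  have h0 := CI2.torDim_mvPolynomial n 0 K ((TorBal.flat_iff_hasTorDimLE_zero (A := A) _).2 hK)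
  rw [Nat.zero_add] at h0
  exact TorAscH7.ascends (MvPolynomial (Fin n) A) C n _ h0

/-- A module flat over the base has tor dimension at most the relative dimension. -/
theorem hasTorDimLE_of_flat {A B : Type u} [CommRing A] [CommRing B] [Algebra A B] [Algebra.Smooth A B] (n : ℕ)
    (hn : ∀ p : PrimeSpectrum B, Module.rankAtStalk (Ω[B⁄A]) p = n)
    (K : Type u) [AddCommGroup K] [Module A K] [Module B K] [IsScalarTower A B K] [Module.Flat A K] :
    DRing.HasTorDimLE B n K := by
  obtain ⟨s, hs, hst⟩ := Algebra.Smooth.exists_span_eq_top_isStandardSmooth A B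
  refine hasTorDimLE_of_span s hs n K fun f hf => ?_
  let C := Localization.Away f
  haveI := hst f hf
  rcases subsingleton_or_nontrivial C with hC | hC
  · intro N _ _ p _
    haveI : Subsingleton (C ⊗[B] K) := Module.subsingleton C _
    exact ModuleCat.subsingleton_of_isZero (FlatSyz.isZero_tor_of_subsingleton (B := C) (M := C ⊗[B] K) p _)
  haveI : Algebra.FormallyEtale B C := Algebra.FormallyEtale.of_isLocalization (Submonoid.powers f)
  haveI := standardSmooth_relDim (A := A) (B := B) (C := C) n hn
  obtain ⟨g, hg⟩ := Algebra.IsStandardSmoothOfRelativeDimension.exists_etale_mvPolynomial (n := n) A C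
  haveI : Module.Flat A (C ⊗[B] K) := by
    haveI := FlatSyz.flat_localizedModule (A := A) (M := K) (Submonoid.powers f)
    exact Module.Flat.of_linearEquiv
      ((((IsLocalizedModule.isBaseChange (Submonoid.powers f) C
        (LocalizedModule.mkLinearMap (Submonoid.powers f) K)).equiv).restrictScalars B).restrictScalars A)
  exact hasTorDimLE_of_etale g hg (C ⊗[B] K) inferInstance

/-- Tor dimension over a smooth algebra of relative dimension `n`. -/
theorem hasTorDimLE_smooth {A B : Type u} [CommRing A] [CommRing B] [Algebra A B] [Algebra.Smooth A B] (n : ℕ)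
    (hn : ∀ p : PrimeSpectrum B, Module.rankAtStalk (Ω[B⁄A]) p = n) :
    ∀ (m : ℕ) (M : Type u) [AddCommGroup M] [Module A M] [Module B M] [IsScalarTower A B M],
      DRing.HasTorDimLE A m M → DRing.HasTorDimLE B (m + n) M := by
  intro m
  induction m with
  | zero =>
    intro M _ _ _ _ h
    haveI := (TorBal.flat_iff_hasTorDimLE_zero M).1 h
    rw [Nat.zero_add]
    exact hasTorDimLE_of_flat n hn M
  | succ m ih =>
    intro M _ _ _ _ h
    let p : (M →₀ B) →ₗ[B] M := Finsupp.linearCombination B id
    have hp : Function.Surjective p := Finsupp.linearCombination_id_surjective B M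
    haveI : Module.Flat A (M →₀ B) := Module.Flat.trans A B (M →₀ B)
    let K := LinearMap.ker p
    have hK : DRing.HasTorDimLE A m K := (TorAscH7.hasTorDimLE_succ_iff (K.subtype.restrictScalars A) K.injective_subtype
      (p.restrictScalars A) (LinearMap.exact_subtype_ker_map p) hp m).1 h
    rw [Nat.add_right_comm]
    exact (TorAscH7.hasTorDimLE_succ_iff K.subtype K.injective_subtype p (LinearMap.exact_subtype_ker_map p) hp _).2
      (ih K hK)

end Groth.Agent.HypTor28
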